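import Mathlib
import Cfsg.Prelude.Def_Blocks
import Cfsg.Agent.Lib.Helper75.BrauerHalfF
import Cfsg.Agent.Lib.Helper25.BrauerEnd
import Cfsg.Agent.Lib.Helper34.SylowConj

/-!
# S4504-[C-IRR] (helper79's project): the restriction of the faithful character of degree
`(p-1)/2` to the normal closure `L` of a Sylow `p`-subgroup is irreducible, `L` is the normal
closure of each of its Sylow `p`-subgroups, and no nontrivial irreducible character of `L` is
trivial on a Sylow `p`-subgroup.
-/

set_option autoImplicit false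

open Cfsg

universe u

namespace Cfsg.Agent.Lib.Helper92.S4504

open Cfsg.Agent.Lib.Helper78 Cfsg.Agent.Lib.Helper80 Cfsg.Agent.Lib.Helper25.BrauerEnd

/-- a Sylow subgroup of order `p`: the `p`-part of `|G|` is `p` -/
theorem cIrr_factorization {G : Type u} [Group G] [Finite G] {p : ℕ} [Fact p.Prime]
    (P : Sylow p G) (hP : Nat.card P = p) : (Nat.card G).factorization p = 1 := by
  have h1 := Sylow.card_eq_multiplicity P
  rw [hP] at h1
  have h2 : p ^ 1 = p ^ (Nat.card G).factorization p := by rw [pow_one]; exact h1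
  exact (Nat.pow_right_injective (Fact.out : p.Prime).two_le h2).symm

/-- every Sylow `p`-subgroup of a subgroup `L ≥ P` has order `p` -/
theorem cIrr_card_sylow {G : Type u} [Group G] [Finite G] {p : ℕ} [Fact p.Prime]
    (P : Sylow p G) (hP : Nat.card P = p) (L : Subgroup G) (hPL : (P : Subgroup G) ≤ L)
    (Q : Sylow p L) : Nat.card Q = p := by
  have hp : p.Prime := Fact.out
  have hdivL : p ∣ Nat.card L := hP ▸ Subgroup.card_dvd_of_le hPL
  have hsqL : ¬ p ^ 2 ∣ Nat.card L := by
    intro h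
    have h1 : p ^ 2 ∣ Nat.card G := h.trans (Subgroup.card_subgroup_dvd_card L)
    have h2 := (hp.pow_dvd_iff_le_factorization Nat.card_pos.ne').1 h1
    rw [cIrr_factorization P hP] at h2
    omega
  rw [Sylow.card_eq_multiplicity, factorization_eq_one hp Nat.card_pos.ne' hdivL hsqL, pow_one]

/-- `L` is the normal closure of each of its Sylow `p`-subgroups -/
theorem cIrr_normalClosure_eq_top {G : Type u} [Group G] [Finite G] {p : ℕ} [Fact p.Prime]
    (P : Sylow p G) (L : Subgroup G) (hL : L = Subgroup.normalClosure ((P : Subgroup G) : Set G))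
    (Q : Sylow p L) : Subgroup.normalClosure ((Q : Subgroup L) : Set L) = ⊤ := by
  have hLn : L.Normal := hL ▸ Subgroup.normalClosure_normal
  have hPL : (P : Subgroup G) ≤ L := hL ▸ Subgroup.le_normalClosure
  -- every conjugate of an element of `P` lies in the normal closure `N` of `Q`
  have hclaim : ∀ (g x : G), x ∈ (P : Subgroup G) → ∀ h : g * x * g⁻¹ ∈ L,
      (⟨g * x * g⁻¹, h⟩ : L) ∈ Subgroup.normalClosure ((Q : Subgroup L) : Set L) := by
    intro g x hx h
    have hle : ((g • P : Sylow p G) : Subgroup G) ≤ L := by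
      intro y hy
      rw [Cfsg.Agent.Lib.Helper34.mem_sylow_smul_iff] at hy
      have h1 : g⁻¹ * y * g ∈ L := hPL hy
      have h2 := hLn.conj_mem _ h1 g
      have h3 : g * (g⁻¹ * y * g) * g⁻¹ = y := by group
      rwa [h3] at h2
    obtain ⟨l, hl⟩ := MulAction.exists_smul_eq L Q ((g • P : Sylow p G).subtype hle)
    have hmem : (⟨g * x * g⁻¹, h⟩ : L) ∈ (((g • P : Sylow p G).subtype hle : Sylow p L) : Subgroup L) := by
      rw [Sylow.coe_subtype, Subgroup.mem_subgroupOf]
      show g * x * g⁻¹ ∈ ((g • P : Sylow p G) : Subgroup G)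
      rw [Cfsg.Agent.Lib.Helper34.mem_sylow_smul_iff]
      have h3 : g⁻¹ * (g * x * g⁻¹) * g = x := by group
      rw [h3]; exact hx
    rw [← hl, Cfsg.Agent.Lib.Helper34.mem_sylow_smul_iff] at hmem
    have h4 : l⁻¹ * (⟨g * x * g⁻¹, h⟩ : L) * l ∈
        Subgroup.normalClosure ((Q : Subgroup L) : Set L) := Subgroup.le_normalClosure hmem
    have hNn : (Subgroup.normalClosure ((Q : Subgroup L) : Set L)).Normal :=
      Subgroup.normalClosure_normal
    have h5 := hNn.conj_mem _ h4 l
    have h6 : l * (l⁻¹ * (⟨g * x * g⁻¹, h⟩ : L) * l) * l⁻¹ = ⟨g * x * g⁻¹, h⟩ := by group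
    rwa [h6] at h5
  -- hence `L ≤ N`
  have hLle : L ≤ (Subgroup.normalClosure ((Q : Subgroup L) : Set L)).map L.subtype := by
    conv_lhs => rw [hL]
    unfold Subgroup.normalClosure
    rw [Subgroup.closure_le]
    intro a ha
    obtain ⟨b, hb, hba⟩ := Group.mem_conjugatesOfSet_iff.mp ha
    obtain ⟨c, hc⟩ := isConj_iff.mp hba
    have haL : a ∈ L := by
      rw [hL]
      exact Subgroup.subset_closure ha
    have h1 : c * b * c⁻¹ ∈ L := hc ▸ haL
    refine ⟨⟨c * b * c⁻¹, h1⟩, hclaim c b hb h1, ?_⟩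
    exact hc
  rw [eq_top_iff]
  intro y _
  obtain ⟨z, hz, hzy⟩ := hLle y.2
  have : z = y := Subtype.ext hzy
  rwa [this] at hz

/-- an irreducible character of `L` trivial on a Sylow `p`-subgroup is trivial -/
theorem cIrr_trivial_of_sylow {L : Type u} [Group L] [Finite L] {p : ℕ} [Fact p.Prime]
    (Q : Sylow p L) (hQ : Subgroup.normalClosure ((Q : Subgroup L) : Set L) = ⊤)
    (Ξ : IrrCharacter L)
    (h : ∀ y : L, y ∈ (Q : Subgroup L) → (Ξ : L → ℂ) y = (Ξ : L → ℂ) 1) :
    ∀ g : L, (Ξ : L → ℂ) g = 1 := by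
  apply irr_const_eq_one Ξ
  have hΞc := isCharacter_of_isIrr Ξ.2
  have hle : Subgroup.normalClosure ((Q : Subgroup L) : Set L) ≤ charKer (Ξ : L → ℂ) hΞc := by
    apply Subgroup.normalClosure_le_normal
    intro y hy
    exact (mem_charKer hΞc y).2 (h y hy)
  intro g
  have : g ∈ charKer (Ξ : L → ℂ) hΞc := hle (by rw [hQ]; trivial)
  exact (mem_charKer hΞc g).1 this

/-- a character all of whose irreducible constituents have smaller degree or which is
irreducible: if a constituent has the full degree then the character is that constituent -/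
theorem cIrr_eq_of_degree {L : Type u} [Group L] [Finite L] (χ : L → ℂ)
    (m : IrrCharacter L → ℕ) (hm : χ = ∑ ψ : IrrCharacter L, (m ψ : ℂ) • (ψ : L → ℂ))
    (hdeg : charDegree χ = ∑ ψ : IrrCharacter L, m ψ * charDegree (ψ : L → ℂ))
    (ψ : IrrCharacter L) (hψ : m ψ ≠ 0) (hge : charDegree χ ≤ charDegree (ψ : L → ℂ)) :
    χ = (ψ : L → ℂ) := by
  classical
  have hpos : ∀ φ : IrrCharacter L, 0 < charDegree (φ : L → ℂ) :=
    fun φ => charDegree_pos_of_isIrr φ.2
  have hsplit : ∑ φ : IrrCharacter L, m φ * charDegree (φ : L → ℂ) =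
      m ψ * charDegree (ψ : L → ℂ) +
        ∑ φ ∈ Finset.univ.erase ψ, m φ * charDegree (φ : L → ℂ) :=
    (Finset.add_sum_erase Finset.univ (fun φ : IrrCharacter L => m φ * charDegree (φ : L → ℂ))
      (Finset.mem_univ ψ)).symm
  have h1 : charDegree (ψ : L → ℂ) ≤ m ψ * charDegree (ψ : L → ℂ) :=
    Nat.le_mul_of_pos_left _ (Nat.pos_of_ne_zero hψ)
  have hrest : ∑ φ ∈ Finset.univ.erase ψ, m φ * charDegree (φ : L → ℂ) = 0 := by
    rw [hsplit] at hdeg
    omega
  have hmψ : m ψ * charDegree (ψ : L → ℂ) = charDegree (ψ : L → ℂ) := by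
    rw [hsplit] at hdeg
    omega
  have hmψ1 : m ψ = 1 := by
    have := hpos ψ
    have h2 : m ψ * charDegree (ψ : L → ℂ) = 1 * charDegree (ψ : L → ℂ) := by rw [hmψ, one_mul]
    exact Nat.eq_of_mul_eq_mul_right this h2
  have hm0 : ∀ φ : IrrCharacter L, φ ≠ ψ → m φ = 0 := by
    intro φ hφ
    have h2 := (Finset.sum_eq_zero_iff.mp hrest) φ (Finset.mem_erase.mpr ⟨hφ, Finset.mem_univ φ⟩)
    rcases Nat.mul_eq_zero.mp h2 with h3 | h3
    · exact h3
    · have := hpos φ; omega
  rw [hm, Finset.sum_eq_single ψ (fun φ _ hφ => by rw [hm0 φ hφ]; simp) (fun h => (h (Finset.mem_univ ψ)).elim),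
    hmψ1]
  simp

/-- MODULE [C-IRR] of S4504, exact statement of the sheet. -/
theorem restrict_normalClosure_irr {G : Type u} [Group G] [Finite G] {p : ℕ} (hp : p.Prime)
    (P : Sylow p G) (hP : Nat.card P = p)
    (hnn : ∀ H : Subgroup G, H.Normal → Nat.card H ≠ p)
    (χ : G → ℂ) (hχ : IsCharacter G χ) (hfaith : ∀ g : G, χ g = χ 1 → g = 1)
    (hdeg : 2 * charDegree χ + 1 = p)
    (L : Subgroup G) (hL : L = Subgroup.normalClosure ((P : Subgroup G) : Set G)) :
    IsIrrCharacter L (fun h : L => χ h) ∧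
      (∀ Q : Sylow p L, Subgroup.normalClosure ((Q : Subgroup L) : Set L) = ⊤) ∧
      ∀ (Q : Sylow p L) (Ξ : IrrCharacter L),
        (∀ y : L, y ∈ (Q : Subgroup L) → (Ξ : L → ℂ) y = (Ξ : L → ℂ) 1) →
          ∀ g : L, (Ξ : L → ℂ) g = 1 := by
  classical
  have : Fact p.Prime := ⟨hp⟩
  have h2 : ∀ Q : Sylow p L, Subgroup.normalClosure ((Q : Subgroup L) : Set L) = ⊤ :=
    fun Q => cIrr_normalClosure_eq_top P L hL Q
  have h3 : ∀ (Q : Sylow p L) (Ξ : IrrCharacter L),
      (∀ y : L, y ∈ (Q : Subgroup L) → (Ξ : L → ℂ) y = (Ξ : L → ℂ) 1) →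
        ∀ g : L, (Ξ : L → ℂ) g = 1 :=
    fun Q Ξ h => cIrr_trivial_of_sylow Q (h2 Q) Ξ h
  refine ⟨?_, h2, h3⟩
  have hLn : L.Normal := hL ▸ Subgroup.normalClosure_normal
  have hPL : (P : Subgroup G) ≤ L := hL ▸ Subgroup.le_normalClosure
  obtain ⟨Q⟩ : Nonempty (Sylow p L) := Sylow.nonempty
  have hQcard : Nat.card Q = p := cIrr_card_sylow P hP L hPL Q
  have hχL : IsCharacter L (fun h : L => χ h) := isCharacter_restrict L hχ
  have hdegL : charDegree (fun h : L => χ h) = charDegree χ := by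
    apply charDegree_natCast
    show χ ((1 : L) : G) = _
    rw [Subgroup.coe_one]
    exact char_one_eq_charDegree hχ
  by_contra hirr
  let _ : Fintype L := Fintype.ofFinite L
  obtain ⟨m, hm⟩ := (isCharacter_iff_exists_nat_combination (fun h : L => χ h)).1 hχL
  have hdegψ : ∀ ψ : IrrCharacter L, (ψ : L → ℂ) 1 = (charDegree (ψ : L → ℂ) : ℂ) :=
    fun ψ => char_one_eq_charDegree (isCharacter_of_isIrr ψ.2)
  have hdegsum : charDegree (fun h : L => χ h) =
      ∑ ψ : IrrCharacter L, m ψ * charDegree (ψ : L → ℂ) := by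
    apply charDegree_natCast
    refine (congrFun hm 1).trans ?_
    simp only [Finset.sum_apply, Pi.smul_apply, smul_eq_mul, hdegψ]
    push_cast
    rfl
  have hlin : ∀ ψ : IrrCharacter L, m ψ ≠ 0 → charDegree (ψ : L → ℂ) = 1 := by
    intro ψ hψ
    apply Cfsg.Agent.Lib.Helper75.BrauerHalf.main_lemma hp Q hQcard (h3 Q) ψ
    have hlt : charDegree (ψ : L → ℂ) < charDegree (fun h : L => χ h) := by
      by_contra hge
      rw [not_lt] at hge
      have := cIrr_eq_of_degree (fun h : L => χ h) m hm hdegsum ψ hψ hge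
      exact hirr (this ▸ ψ.2)
    omega
  -- `L` is commutative
  have hcomm : ∀ g h : L, g * h = h * g := by
    intro g h
    have hone : g * h * g⁻¹ * h⁻¹ = 1 := by
      have h1 : ((g * h * g⁻¹ * h⁻¹ : L) : G) = 1 := by
        apply hfaith
        show (fun x : L => χ x) (g * h * g⁻¹ * h⁻¹) = (fun x : L => χ x) 1
        rw [hm]
        simp only [Finset.sum_apply, Pi.smul_apply, smul_eq_mul]
        apply Finset.sum_congr rfl
        intro ψ _
        by_cases hψ : m ψ = 0
        · rw [hψ]; simp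
        · have h1 : (ψ : L → ℂ) 1 = 1 := by rw [hdegψ, hlin ψ hψ]; simp
          obtain ⟨φ, hφ⟩ := Cfsg.Agent.Lib.Helper77.exists_monoidHom_of_degree_one
            (isCharacter_of_isIrr ψ.2) h1
          rw [hφ, hφ]
          simp
      exact Subtype.ext h1
    have := congrArg (fun z => z * h * g) hone
    simpa [mul_assoc] using this
  -- the Sylow subgroup `Q` of `L` is normal in `L`, hence characteristic, hence normal in `G`
  have hQn : (Q : Subgroup L).Normal := by
    refine ⟨fun x hx g => ?_⟩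
    rw [hcomm g x, mul_assoc, mul_inv_cancel, mul_one]
    exact hx
  have : (Q : Subgroup L).Characteristic := Sylow.characteristic_of_normal Q hQn
  have hnorm : ((Q : Subgroup L).map L.subtype).Normal := ConjAct.normal_of_characteristic_of_normal
  apply hnn ((Q : Subgroup L).map L.subtype) hnorm
  have hcard : Nat.card ((Q : Subgroup L).map L.subtype) = Nat.card Q := Nat.card_congr
    (Subgroup.equivMapOfInjective (Q : Subgroup L) L.subtype L.subtype_injective).symm.toEquiv
  rw [hcard]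
  exact hQcard

end Cfsg.Agent.Lib.Helper92.S4504
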